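import Groth.Agent.HomRepLib.Transfer
import Mathlib.AlgebraicGeometry.Pullbacks
import Mathlib.RingTheory.Flat.Basic
import Mathlib.RingTheory.Jacobson.Ring

/-!
# Isomorphisms of affine algebraic groups descend along algebraically closed extensions
-/

set_option autoImplicit false
set_option backward.isDefEq.respectTransparency false

noncomputable section

universe u

open CategoryTheory CategoryTheory.Limits MonoidalCategory CartesianMonoidalCategory AlgebraicGeometry
open scoped MonObj TensorProduct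

namespace Groth.Agent.GrpIsoDesc

variable {K : Type u} [Field K]

/-- An algebra as a scheme over the field. -/
abbrev toK (A : Type u) [CommRing A] [Algebra K A] : Over (Spec (CommRingCat.of K)) :=
  Over.mk (Spec.map (CommRingCat.ofHom (algebraMap K A)))

/-- An algebra map as a morphism over the field. -/
def toKMap {B L : Type u} [CommRing B] [Algebra K B] [CommRing L] [Algebra K L] (jj : B →ₐ[K] L) :
    toK (K := K) L ⟶ toK (K := K) B :=
  Over.homMk (Spec.map (CommRingCat.ofHom jj.toRingHom)) (by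
    show Spec.map _ ≫ Spec.map _ = Spec.map _
    rw [← Spec.map_comp, ← CommRingCat.ofHom_comp, show jj.toRingHom.comp (algebraMap K B) = algebraMap K L from RingHom.ext jj.commutes])

/-- An affine scheme over the field comes from an algebra. -/
theorem exists_iso_toK (Z : Over (Spec (CommRingCat.of K))) [IsAffine Z.left] :
    ∃ (A : Type u) (_ : CommRing A) (_ : Algebra K A),
      (LocallyOfFiniteType Z.hom → Algebra.FiniteType K A) ∧ Nonempty (Z ≅ toK (K := K) A) := by
  obtain ⟨φ, hφ⟩ := Spec.map_surjective (Z.left.isoSpec.inv ≫ Z.hom)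
  letI : Algebra K Γ(Z.left, ⊤) := φ.hom.toAlgebra
  refine ⟨Γ(Z.left, ⊤), inferInstance, inferInstance, fun _ => ?_, ⟨Over.isoMk Z.left.isoSpec ?_⟩⟩
  · have : LocallyOfFiniteType (Spec.map φ) := by rw [hφ]; infer_instance
    exact (HasRingHomProperty.Spec_iff (P := @LocallyOfFiniteType)).1 this
  · show Z.left.isoSpec.hom ≫ Spec.map φ = Z.hom
    rw [hφ, Iso.hom_inv_id_assoc]

section

variable (A : Type u) [CommRing A] [Algebra K A]

/-- The spectrum of a tensor product. -/
def tensorIso (B : Type u) [CommRing B] [Algebra K B] :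
    (toK (K := K) A ⊗ toK (K := K) B).left ≅ Spec (CommRingCat.of (A ⊗[K] B)) :=
  pullbackSpecIso K A B

theorem tensorIso_inv_hom (B : Type u) [CommRing B] [Algebra K B] :
    (tensorIso A B).inv ≫ (toK (K := K) A ⊗ toK (K := K) B).hom =
      Spec.map (CommRingCat.ofHom (algebraMap K (A ⊗[K] B))) := by
  show (pullbackSpecIso K A B).inv ≫ pullback.fst _ _ ≫ Spec.map _ = _
  rw [← Category.assoc, pullbackSpecIso_inv_fst, ← Spec.map_comp, ← CommRingCat.ofHom_comp]
  rfl

theorem tensorIso_inv_whisker {B L : Type u} [CommRing B] [Algebra K B] [CommRing L] [Algebra K L] (jj : B →ₐ[K] L) :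
    (tensorIso A L).inv ≫ (toK (K := K) A ◁ toKMap jj).left =
      Spec.map (CommRingCat.ofHom (Algebra.TensorProduct.map (AlgHom.id K A) jj).toRingHom) ≫ (tensorIso A B).inv := by
  apply pullback.hom_ext
  · have h1 := congrArg CommaMorphism.left (whiskerLeft_fst (toK (K := K) A) (toKMap jj))
    rw [Category.assoc, Category.assoc]
    refine Eq.trans (congrArg ((tensorIso A L).inv ≫ ·) h1) ?_
    refine (pullbackSpecIso_inv_fst K A L).trans (Eq.trans ?_
      (congrArg (Spec.map _ ≫ ·) (pullbackSpecIso_inv_fst K A B)).symm)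
    rw [← Spec.map_comp]
    congr 1
    ext a
    simp
  · have h1 := congrArg CommaMorphism.left (whiskerLeft_snd (toK (K := K) A) (toKMap jj))
    rw [Category.assoc, Category.assoc]
    refine Eq.trans (congrArg ((tensorIso A L).inv ≫ ·) h1) ?_
    refine ((Category.assoc _ _ _).symm.trans (congrArg (· ≫ (toKMap jj).left) (pullbackSpecIso_inv_snd K A L))).trans
      (Eq.trans ?_ (congrArg (Spec.map _ ≫ ·) (pullbackSpecIso_inv_snd K A B)).symm)
    show Spec.map _ ≫ Spec.map _ = _
    rw [← Spec.map_comp, ← Spec.map_comp]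
    congr 1

end

variable {L : Type u} [CommRing L] [Algebra K L]

/-- Morphisms into affine schemes are determined after extending an algebra. -/
theorem cancel {B : Type u} [CommRing B] [Algebra K B] (jj : B →ₐ[K] L) (hj : Function.Injective jj)
    {Z G : Over (Spec (CommRingCat.of K))} [IsAffine Z.left] [IsAffine G.left] (g₁ g₂ : Z ⊗ toK (K := K) B ⟶ G)
    (h : (Z ◁ toKMap jj) ≫ g₁ = (Z ◁ toKMap jj) ≫ g₂) : g₁ = g₂ := by
  obtain ⟨A, _, _, -, ⟨ε⟩⟩ := exists_iso_toK Z
  rw [← cancel_epi (ε.inv ▷ toK (K := K) B)]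
  have h' : (toK (K := K) A ◁ toKMap jj) ≫ (ε.inv ▷ _) ≫ g₁ = (toK (K := K) A ◁ toKMap jj) ≫ (ε.inv ▷ _) ≫ g₂ := by
    rw [whisker_exchange_assoc, h, whisker_exchange_assoc]
  refine Over.OverMorphism.ext ?_
  rw [← cancel_epi (tensorIso A B).inv, ← cancel_mono G.left.isoSpec.hom]
  obtain ⟨φ₁, h1⟩ := Spec.map_surjective (((tensorIso A B).inv ≫ (ε.inv ▷ _ ≫ g₁).left) ≫ G.left.isoSpec.hom)
  obtain ⟨φ₂, h2⟩ := Spec.map_surjective (((tensorIso A B).inv ≫ (ε.inv ▷ _ ≫ g₂).left) ≫ G.left.isoSpec.hom)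
  rw [← h1, ← h2]
  congr 1
  have hm : Function.Injective (Algebra.TensorProduct.map (AlgHom.id K A) jj) :=
    Module.Flat.lTensor_preserves_injective_linearMap (M := A) jj.toLinearMap hj
  have h3 : φ₁ ≫ CommRingCat.ofHom (Algebra.TensorProduct.map (AlgHom.id K A) jj).toRingHom =
      φ₂ ≫ CommRingCat.ofHom (Algebra.TensorProduct.map (AlgHom.id K A) jj).toRingHom := by
    refine Spec.map_injective ?_
    rw [Spec.map_comp, Spec.map_comp, h1, h2]
    simp only [← Category.assoc]
    rw [← tensorIso_inv_whisker]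
    simp only [Category.assoc]
    rw [← Category.assoc (toK (K := K) A ◁ toKMap jj).left, ← Category.assoc (toK (K := K) A ◁ toKMap jj).left,
      ← Over.comp_left, ← Over.comp_left, h']
  ext x
  exact hm (congrArg (fun ψ => (ConcreteCategory.hom ψ) x) h3)

theorem exists_finset_mem_range (A : Type u) [CommRing A] [Algebra K A] (z : A ⊗[K] L) : ∃ s : Finset L, ∀ B : Subalgebra K L, (s : Set L) ⊆ B →
    z ∈ (Algebra.TensorProduct.map (AlgHom.id K A) B.val).range := by
  classical
  induction z with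
  | zero => exact ⟨∅, fun B _ => zero_mem _⟩
  | tmul a l => exact ⟨{l}, fun B hB => ⟨a ⊗ₜ ⟨l, hB (Finset.mem_singleton_self l)⟩, by simp⟩⟩
  | add x y hx hy =>
    obtain ⟨s, hs⟩ := hx
    obtain ⟨t, ht⟩ := hy
    exact ⟨s ∪ t, fun B hB => add_mem (hs B fun _ h => hB (Finset.mem_union_left t h))
      (ht B fun _ h => hB (Finset.mem_union_right s h))⟩

/-- A morphism is defined over a finitely generated subalgebra. -/
theorem exists_factor {G G' : Over (Spec (CommRingCat.of K))} [IsAffine G.left] [IsAffine G'.left]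
    [LocallyOfFiniteType G'.hom] (h : G ⊗ toK (K := K) L ⟶ G') :
    ∃ s : Finset L, ∀ B : Subalgebra K L, (s : Set L) ⊆ B →
      ∃ hB : G ⊗ toK (K := K) B ⟶ G', (G ◁ toKMap B.val) ≫ hB = h := by
  classical
  obtain ⟨A, _, _, -, ⟨ε⟩⟩ := exists_iso_toK G
  obtain ⟨A', _, _, hft, ⟨ε'⟩⟩ := exists_iso_toK G'
  haveI := hft inferInstance
  let h₀ : toK (K := K) A ⊗ toK (K := K) L ⟶ toK (K := K) A' := (ε.inv ▷ _) ≫ h ≫ ε'.hom
  obtain ⟨ψ₀, hψ₀⟩ := Spec.map_surjective ((tensorIso A L).inv ≫ h₀.left)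
  have hcomm : CommRingCat.ofHom (algebraMap K A') ≫ ψ₀ = CommRingCat.ofHom (algebraMap K (A ⊗[K] L)) := by
    refine Spec.map_injective ?_
    rw [Spec.map_comp, hψ₀, Category.assoc, ← tensorIso_inv_hom]
    exact congrArg _ (Over.w h₀)
  let ψ : A' →ₐ[K] A ⊗[K] L :=
    { ψ₀.hom with commutes' := fun r => congrArg (fun χ => (ConcreteCategory.hom χ) r) hcomm }
  obtain ⟨t, ht⟩ := Algebra.FiniteType.out (R := K) (A := A')
  choose s hs using fun z => exists_finset_mem_range A (ψ z)
  refine ⟨t.biUnion s, fun B hB => ?_⟩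
  let m := Algebra.TensorProduct.map (AlgHom.id K A) B.val
  have hm : Function.Injective m :=
    Module.Flat.lTensor_preserves_injective_linearMap (M := A) B.val.toLinearMap Subtype.val_injective
  have hrange : ∀ x, ψ x ∈ m.range := by
    intro x
    have hle : Algebra.adjoin K (t : Set A') ≤ m.range.comap ψ :=
      Algebra.adjoin_le fun z hz => hs z B fun l hl => hB (Finset.mem_biUnion.2 ⟨z, hz, hl⟩)
    exact hle (ht ▸ Algebra.mem_top)
  let ψB : A' →ₐ[K] A ⊗[K] B := (AlgEquiv.ofInjective m hm).symm.toAlgHom.comp (ψ.codRestrict _ hrange)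
  have hmψ : m.comp ψB = ψ := AlgHom.ext fun x =>
    congrArg Subtype.val ((AlgEquiv.ofInjective m hm).apply_symm_apply (ψ.codRestrict _ hrange x))
  let hB₀ : toK (K := K) A ⊗ toK (K := K) B ⟶ toK (K := K) A' :=
    Over.homMk ((tensorIso A B).hom ≫ Spec.map (CommRingCat.ofHom ψB.toRingHom)) (by
      show ((tensorIso A B).hom ≫ Spec.map _) ≫ Spec.map _ = _
      rw [Category.assoc, ← Spec.map_comp, ← CommRingCat.ofHom_comp, show ψB.toRingHom.comp (algebraMap K A') = algebraMap K (A ⊗[K] B) from RingHom.ext ψB.commutes, ← tensorIso_inv_hom,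
        Iso.hom_inv_id_assoc])
  have hfac : (toK (K := K) A ◁ toKMap B.val) ≫ hB₀ = h₀ := by
    refine Over.OverMorphism.ext ?_
    rw [← cancel_epi (tensorIso A L).inv, Over.comp_left, ← Category.assoc, tensorIso_inv_whisker, ← hψ₀]
    show (Spec.map _ ≫ (tensorIso A B).inv) ≫ (tensorIso A B).hom ≫ Spec.map _ = _
    rw [Category.assoc, Iso.inv_hom_id_assoc, ← Spec.map_comp]
    congr 1
    exact CommRingCat.hom_ext (congrArg AlgHom.toRingHom hmψ)
  refine ⟨(ε.hom ▷ _) ≫ hB₀ ≫ ε'.inv, ?_⟩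
  rw [whisker_exchange_assoc, reassoc_of% hfac]
  simp [h₀]

/-- A rational point of an algebra of finite type. -/
theorem exists_point [IsAlgClosed K] (B : Type u) [CommRing B] [Algebra K B] [Algebra.FiniteType K B] [Nontrivial B] :
    Nonempty (B →ₐ[K] K) := by
  obtain ⟨m, hm⟩ := Ideal.exists_maximal B
  letI := Ideal.Quotient.field m
  haveI : Algebra.FiniteType K (B ⧸ m) := inferInstance
  haveI : Module.Finite K (B ⧸ m) := finite_of_finite_type_of_isJacobsonRing K (B ⧸ m)
  exact ⟨(AlgEquiv.ofBijective (Algebra.ofId K (B ⧸ m))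
    IsAlgClosed.algebraMap_bijective_of_isIntegral).symm.toAlgHom.comp (Ideal.Quotient.mkₐ K m)⟩

end Groth.Agent.GrpIsoDesc
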