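import Groth.Agent.GrpIsoDescLib.Basic

/-!
# An isomorphism of groups over an algebraically closed field descends
-/

set_option autoImplicit false
set_option backward.isDefEq.respectTransparency false

noncomputable section

universe u

open CategoryTheory CategoryTheory.Limits MonoidalCategory CartesianMonoidalCategory AlgebraicGeometry
open scoped MonObj

namespace Groth.Agent.GrpIsoDesc

open HomRep (tr bcEquiv)

variable {K : Type u} [Field K] {L : Type u} [CommRing L] [Algebra K L]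

section

variable {S P : Scheme.{u}} (p : P ⟶ S) (G G' : Over S) [GrpObj G] [GrpObj G']

/-- The family of a pair of inverse maps of base changes. -/
theorem tr_inverse (T : Over P) (φ : Red.bc p G ⟶ Red.bc p G') (φ' : Red.bc p G' ⟶ Red.bc p G)
    (h : φ ≫ φ' = 𝟙 _) :
    lift (tr p G G' (fst (Red.bc p G) T ≫ φ)) (snd G _) ≫ tr p G' G (fst (Red.bc p G') T ≫ φ') = fst G _ := by
  rw [← cancel_epi (HomRep.prodMap p G T), ← Category.assoc, comp_lift]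
  have h1 : HomRep.prodMap p G T ≫ tr p G G' (fst (Red.bc p G) T ≫ φ) =
      (bcEquiv p G' _).symm (fst (Red.bc p G) T ≫ φ) := by
    rw [tr, IsIso.hom_inv_id_assoc]
  rw [h1, HomRep.prodMap, lift_snd, HomRep.lift_tr, lift_fst, lift_fst_assoc, Category.assoc, h, Category.comp_id]

theorem isHomFamily_tr_fst (T : Over P) (φ : Red.bc p G ⟶ Red.bc p G') [IsMonHom φ] :
    AutFam.IsHomFamily G G' (tr p G G' (fst (Red.bc p G) T ≫ φ)) :=
  (HomRep.isHomFamily_tr p G G' _).2 fun X g₁ g₂ t => by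
    simp only [lift_fst_assoc]
    exact MonObj.mul_comp g₁ g₂ φ

end

/-- An isomorphism over an algebraically closed extension gives one over the field. -/
theorem nonempty_iso_of_bc [IsAlgClosed K] [Nontrivial L] (G G' : Over (Spec (CommRingCat.of K))) [GrpObj G] [GrpObj G']
    [IsAffine G.left] [IsAffine G'.left] [LocallyOfFiniteType G.hom] [LocallyOfFiniteType G'.hom]
    (h : Nonempty (Grp.mk (Red.bc (Spec.map (CommRingCat.ofHom (algebraMap K L))) G) ≅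
      Grp.mk (Red.bc (Spec.map (CommRingCat.ofHom (algebraMap K L))) G'))) :
    Nonempty (Grp.mk G ≅ Grp.mk G') := by
  obtain ⟨E⟩ := h
  let c := Spec.map (CommRingCat.ofHom (algebraMap K L))
  let e : Red.bc c G ≅ Red.bc c G' := (Grp.forget _).mapIso E
  haveI : IsMonHom e.hom := inferInstanceAs (IsMonHom E.hom.hom.hom)
  haveI : IsMonHom e.inv := inferInstanceAs (IsMonHom E.inv.hom.hom)
  let T : Over (Spec (CommRingCat.of L)) := Over.mk (𝟙 _)
  let θ : toK (K := K) L ⟶ (Over.map c).obj T := Over.homMk (𝟙 _) (by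
    show 𝟙 _ ≫ 𝟙 _ ≫ c = c
    simp)
  let F := tr c G G' (fst (Red.bc c G) T ≫ e.hom)
  let F' := tr c G' G (fst (Red.bc c G') T ≫ e.inv)
  obtain ⟨s, hs⟩ := exists_factor ((G ◁ θ) ≫ F)
  obtain ⟨s', hs'⟩ := exists_factor ((G' ◁ θ) ≫ F')
  classical
  let B := Algebra.adjoin K ((s ∪ s' : Finset L) : Set L)
  haveI : Algebra.FiniteType K B := (Subalgebra.fg_iff_finiteType _).1 (Subalgebra.fg_adjoin_finset _)
  obtain ⟨f, hf⟩ := hs B fun x hx => Algebra.subset_adjoin (Finset.mem_union_left s' hx)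
  obtain ⟨f', hf'⟩ := hs' B fun x hx => Algebra.subset_adjoin (Finset.mem_union_right s hx)
  let ρ := toKMap B.val
  have hρ : Function.Injective B.val := Subtype.val_injective
  -- the equations over the subalgebra
  have hinv : ∀ {G₁ G₂ : Over (Spec (CommRingCat.of K))} [IsAffine G₁.left] (f₁ : G₁ ⊗ toK (K := K) B ⟶ G₂)
      (f₂ : G₂ ⊗ toK (K := K) B ⟶ G₁) (F₁ : G₁ ⊗ (Over.map c).obj T ⟶ G₂) (F₂ : G₂ ⊗ (Over.map c).obj T ⟶ G₁),
      (G₁ ◁ ρ) ≫ f₁ = (G₁ ◁ θ) ≫ F₁ → (G₂ ◁ ρ) ≫ f₂ = (G₂ ◁ θ) ≫ F₂ →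
      lift F₁ (snd G₁ _) ≫ F₂ = fst G₁ _ → lift f₁ (snd G₁ _) ≫ f₂ = fst G₁ _ := by
    intro G₁ G₂ _ f₁ f₂ F₁ F₂ h₁ h₂ h12
    refine cancel B.val hρ _ _ ?_
    have e1 : lift ((G₁ ◁ ρ) ≫ f₁) (snd G₁ _) ≫ (G₂ ◁ ρ) = (G₁ ◁ ρ) ≫ lift f₁ (snd G₁ _) := by
      rw [lift_whiskerLeft, comp_lift, whiskerLeft_snd]
    have e2 : lift ((G₁ ◁ θ) ≫ F₁) (snd G₁ _) ≫ (G₂ ◁ θ) = (G₁ ◁ θ) ≫ lift F₁ (snd G₁ _) := by
      rw [lift_whiskerLeft, comp_lift, whiskerLeft_snd]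
    show (G₁ ◁ ρ) ≫ lift f₁ (snd G₁ _) ≫ f₂ = (G₁ ◁ ρ) ≫ fst G₁ _
    rw [← reassoc_of% e1, h₂, h₁, reassoc_of% e2, h12, whiskerLeft_fst, whiskerLeft_fst]
  have hff := hinv f f' F F' hf hf' (tr_inverse c G G' T e.hom e.inv e.hom_inv_id)
  have hff' := hinv f' f F' F hf' hf (tr_inverse c G' G T e.inv e.hom e.inv_hom_id)
  haveI : IsAffine (G ⊗ G).left := inferInstanceAs (IsAffine (pullback G.hom G.hom))
  have hmul : lift ((fst (G ⊗ G) (toK (K := K) B) ≫ fst G G) * (fst _ _ ≫ snd G G)) (snd _ _) ≫ f =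
      (lift (fst (G ⊗ G) (toK (K := K) B) ≫ fst G G) (snd _ _) ≫ f) *
        (lift (fst (G ⊗ G) (toK (K := K) B) ≫ snd G G) (snd _ _) ≫ f) := by
    refine cancel B.val hρ _ _ ?_
    have e1 : ∀ x : (G ⊗ G) ⊗ toK (K := K) B ⟶ G, ((G ⊗ G) ◁ ρ) ≫ lift x (snd _ _) ≫ f =
        lift (((G ⊗ G) ◁ ρ) ≫ x) (snd (G ⊗ G) (toK (K := K) L) ≫ θ) ≫ F := by
      intro x
      rw [← Category.assoc, comp_lift, whiskerLeft_snd, ← lift_whiskerLeft_assoc, hf, lift_whiskerLeft_assoc]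
    show ((G ⊗ G) ◁ ρ) ≫ _ = ((G ⊗ G) ◁ ρ) ≫ _
    rw [MonObj.comp_mul, e1, e1, e1, MonObj.comp_mul]
    exact isHomFamily_tr_fst c G G' T e.hom _ _ _ _
  -- specialise at a rational point
  obtain ⟨β⟩ := exists_point (K := K) B
  let b : 𝟙_ (Over (Spec (CommRingCat.of K))) ⟶ toK (K := K) B :=
    Over.homMk (Spec.map (CommRingCat.ofHom β.toRingHom)) (by
      show Spec.map _ ≫ Spec.map _ = 𝟙 _
      rw [← Spec.map_comp, ← CommRingCat.ofHom_comp,
        show β.toRingHom.comp (algebraMap K B) = RingHom.id K from RingHom.ext β.commutes]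
      exact Spec.map_id _)
  let p := lift (𝟙 G) (toUnit G ≫ b) ≫ f
  let p' := lift (𝟙 G') (toUnit G' ≫ b) ≫ f'
  have hp : ∀ {G₁ G₂ : Over (Spec (CommRingCat.of K))} (f₁ : G₁ ⊗ toK (K := K) B ⟶ G₂)
      (f₂ : G₂ ⊗ toK (K := K) B ⟶ G₁), lift f₁ (snd G₁ _) ≫ f₂ = fst G₁ _ →
      (lift (𝟙 G₁) (toUnit G₁ ≫ b) ≫ f₁) ≫ lift (𝟙 G₂) (toUnit G₂ ≫ b) ≫ f₂ = 𝟙 G₁ := by
    intro G₁ G₂ f₁ f₂ h12
    have := congrArg (lift (𝟙 G₁) (toUnit G₁ ≫ b) ≫ ·) h12
    simp only [lift_fst, ← Category.assoc, comp_lift, lift_snd] at this ⊢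
    simpa [toUnit_unique _ (toUnit G₁)] using this
  have hpm : ∀ {X : Over (Spec (CommRingCat.of K))} (x y : X ⟶ G), (x * y) ≫ p = (x ≫ p) * (y ≫ p) := by
    intro X x y
    have hx : ∀ z : X ⟶ G, z ≫ p = lift z (toUnit X ≫ b) ≫ f := fun z => by
      rw [← Category.assoc, comp_lift, Category.comp_id, ← Category.assoc, toUnit_unique (z ≫ toUnit G) (toUnit X)]
    have h2 := congrArg (lift (lift x y) (toUnit X ≫ b) ≫ ·) hmul
    simp only [← Category.assoc, comp_lift, MonObj.comp_mul, lift_fst, lift_snd] at h2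
    rw [hx, hx, hx]
    exact h2
  let pe : G ≅ G' := ⟨p, p', hp f f' hff, hp f' f hff'⟩
  refine ⟨Grp.mkIso pe ?_ ?_⟩
  · have h1 := hpm (1 : 𝟙_ _ ⟶ G) 1
    rw [_root_.one_mul] at h1
    have h3 := left_eq_mul.1 h1
    simpa [MonObj.one_eq_one] using h3
  · have h1 := hpm (fst G G) (snd G G)
    rw [← MonObj.mul_eq_mul] at h1
    refine h1.trans ?_
    show _ = (p ⊗ₘ p) ≫ MonObj.mul (X := G')
    rw [MonObj.mul_eq_mul, MonObj.comp_mul, tensorHom_fst, tensorHom_snd]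

end Groth.Agent.GrpIsoDesc
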